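import Cfsg.Agent.Lib.Helper32.FM.Defs

set_option autoImplicit false

namespace Cfsg.Agent.Lib.Helper32.FM

open Cfsg.Agent.Lib.Helper25.FrF

variable {S : Type*} [Group S] [Finite S] {E : Type*} [AddCommGroup E] [Module (ZMod 2) E] [Finite E]

theorem C2_gen {ι : Type*} [Fintype ι] [DecidableEq ι] (F : Submodule (ZMod 2) E) (f : ι → E)
    (φ : ι → Module.End (ZMod 2) E) (hF : ∀ i, f i ∈ F) (h1 : ∀ i, φ i (f i) ≠ 0)
    (h0 : ∀ i j, i ≠ j → φ i (f j) = 0) : 2 ^ Fintype.card ι ≤ Nat.card ↥F := by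
  have hinj : Function.Injective (fun c : ι → ZMod 2 =>
      (⟨∑ i, c i • f i, F.sum_mem (fun i _ => F.smul_mem _ (hF i))⟩ : ↥F)) := by
    intro c c' h
    have h' : ∑ i, c i • f i = ∑ i, c' i • f i := congrArg Subtype.val h
    funext i
    have h2 := congrArg (φ i) h'
    simp only [map_sum, map_smul] at h2
    rw [Finset.sum_eq_single i (fun j _ hj => by rw [h0 i j (Ne.symm hj), smul_zero])
        (fun hi => absurd (Finset.mem_univ i) hi),
      Finset.sum_eq_single i (fun j _ hj => by rw [h0 i j (Ne.symm hj), smul_zero])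
        (fun hi => absurd (Finset.mem_univ i) hi)] at h2
    have h3 : (c i - c' i) • φ i (f i) = 0 := by rw [sub_smul, h2, sub_self]
    rcases smul_eq_zero.mp h3 with h4 | h4
    · exact sub_eq_zero.mp h4
    · exact absurd h4 (h1 i)
  have := Nat.card_le_card_of_injective _ hinj
  simpa [Nat.card_eq_fintype_card, ZMod.card] using this

theorem C2_zero (ρ : Representation (ZMod 2) S E) (p : ℕ) (V : Subgroup S) {f g : E} {L : Subgroup S}
    (hL : L ∈ supp ρ V p f) (d : Disjoint (supp ρ V p f) (supp ρ V p g)) : eL ρ L g = 0 := by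
  by_contra h
  exact Set.disjoint_left.mp d hL ⟨hL.1, h⟩

/-- vectors with nonempty pairwise disjoint supports are linearly independent (apply `eL ρ L`, which is linear, for `L` in the
support of one of them), so a subspace containing 2 (resp. 3) of them has at least 4 (resp. 8) elements. -/
theorem four_le (ρ : Representation (ZMod 2) S E) (p : ℕ) (V : Subgroup S) {F : Submodule (ZMod 2) E} {f₁ f₂ : E}
    (h₁ : f₁ ∈ F) (h₂ : f₂ ∈ F) (n₁ : (supp ρ V p f₁).Nonempty) (n₂ : (supp ρ V p f₂).Nonempty)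
    (d : Disjoint (supp ρ V p f₁) (supp ρ V p f₂)) : 4 ≤ Nat.card ↥F := by
  obtain ⟨L₁, hL₁⟩ := n₁
  obtain ⟨L₂, hL₂⟩ := n₂
  have h := C2_gen F ![f₁, f₂] ![eL ρ L₁, eL ρ L₂] ?_ ?_ ?_
  · simpa using h
  · intro i
    fin_cases i
    · exact h₁
    · exact h₂
  · intro i
    fin_cases i
    · exact hL₁.2
    · exact hL₂.2
  · intro i j hij
    fin_cases i <;> fin_cases j
    · exact absurd rfl hij
    · exact C2_zero ρ p V hL₁ d
    · exact C2_zero ρ p V hL₂ d.symm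
    · exact absurd rfl hij

theorem eight_le (ρ : Representation (ZMod 2) S E) (p : ℕ) (V : Subgroup S) {F : Submodule (ZMod 2) E} {f₁ f₂ f₃ : E}
    (h₁ : f₁ ∈ F) (h₂ : f₂ ∈ F) (h₃ : f₃ ∈ F) (n₁ : (supp ρ V p f₁).Nonempty) (n₂ : (supp ρ V p f₂).Nonempty)
    (n₃ : (supp ρ V p f₃).Nonempty) (d₁₂ : Disjoint (supp ρ V p f₁) (supp ρ V p f₂))
    (d₁₃ : Disjoint (supp ρ V p f₁) (supp ρ V p f₃)) (d₂₃ : Disjoint (supp ρ V p f₂) (supp ρ V p f₃)) :
    8 ≤ Nat.card ↥F := by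
  obtain ⟨L₁, hL₁⟩ := n₁
  obtain ⟨L₂, hL₂⟩ := n₂
  obtain ⟨L₃, hL₃⟩ := n₃
  have h := C2_gen F ![f₁, f₂, f₃] ![eL ρ L₁, eL ρ L₂, eL ρ L₃] ?_ ?_ ?_
  · simpa using h
  · intro i
    fin_cases i
    · exact h₁
    · exact h₂
    · exact h₃
  · intro i
    fin_cases i
    · exact hL₁.2
    · exact hL₂.2
    · exact hL₃.2
  · intro i j hij
    fin_cases i <;> fin_cases j
    · exact absurd rfl hij
    · exact C2_zero ρ p V hL₁ d₁₂
    · exact C2_zero ρ p V hL₁ d₁₃
    · exact C2_zero ρ p V hL₂ d₁₂.symm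
    · exact absurd rfl hij
    · exact C2_zero ρ p V hL₂ d₂₃
    · exact C2_zero ρ p V hL₃ d₁₃.symm
    · exact C2_zero ρ p V hL₃ d₂₃.symm
    · exact absurd rfl hij

end Cfsg.Agent.Lib.Helper32.FM
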